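import Mathlib
import Cfsg.Agent.H959.Rad3.Row3
import Cfsg.Agent.H21.SN.Base

/-!
# S3831, row T2: the minimal simple sections for two conjugates of an element of order three (helper663)

`CRow K` : an automorphism `x` of order three of `K` with `RC x`, `Inv x` exists only if `K` is `L₃(3)`, `U₃(3)` or
`PSp₄(3)`. All rows of `H959.Rad3.Row3` are rows `IRow K`, except these three groups.

* `core_known` : for a known simple group `K` with `x` of order three, `RC x`, `PS 2 x`: `IsS3 K`;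
* `core3_of_known` : `Core3` from the classification.
-/

set_option autoImplicit false
set_option linter.unusedSectionVars false

namespace Cfsg.Agent.H663.SN.Core

open Cfsg Subgroup Cfsg.Agent.H459.Rad Cfsg.Agent.H459.Iface Cfsg.Agent.H459.NonFix
open Cfsg.Agent.H959.Rad3 Cfsg.Agent.H959.Rad3.Node Cfsg.Agent.H959.Rad3.RowLie
open Cfsg.Agent.H21.SN (IsS3 PS.pow Core3)

universe u

/-- one of the groups `L₃(3)`, `U₃(3)`, `PSp₄(3)` -/
def D3 (L : Type*) [Group L] : Prop :=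
  (∃ (F : Type) (_ : Field F) (_ : Fintype F), Fintype.card F = 3 ∧
      Nonempty (L ≃* Matrix.ProjectiveSpecialLinearGroup (Fin 3) F)) ∨
    (∃ (F : Type) (_ : Field F) (_ : Fintype F), Fintype.card F = 9 ∧ Nonempty (L ≃* PSU 3 F 3)) ∨
    (∃ (F : Type) (_ : Field F) (_ : Fintype F), Fintype.card F = 3 ∧ Nonempty (L ≃* PSp 2 F))

/-- `RC` and the involution test are possible in the three groups only -/
def CRow (K : Type*) [Group K] : Prop :=
  ∀ x : MulAut K, orderOf x = 3 → RC x → Inv x → D3 K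

theorem _root_.Cfsg.Agent.H959.Rad3.IRow.crow {K : Type*} [Group K] (h : IRow K) : CRow K :=
  fun x h1 h2 h3 => (h x h1 h2 h3).elim

theorem crow_of_d3 {K : Type*} [Group K] (h : D3 K) : CRow K := fun _ _ _ _ => h

variable {K : Type u} [Group K] [Finite K] [IsSimpleGroup K] {r : ℕ} [hr : Fact r.Prime]

/-- `PSL_n(q)`, `n ≥ 3` -/
theorem crow_psl (H : Hyp r K) {F : Type} [Field F] [Fintype F] [CharP F r] {n : ℕ} (hn : 3 ≤ n)
    (e : K ≃* Matrix.ProjectiveSpecialLinearGroup (Fin n) F) : CRow K := by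
  have hF2 : 1 < Fintype.card F := Fintype.one_lt_card
  obtain ⟨m, rfl⟩ : ∃ k, n = k + 1 := ⟨n - 1, by omega⟩
  have hfin : Finite (Matrix.ProjectiveSpecialLinearGroup (Fin (m + 1)) F) := Quotient.finite _
  have hgen : ((m = 2 ∨ (m = 3 ∧ r = 2)) → 4 ≤ Nat.card F) → (r ≠ 3 → FixAt r K) → CRow K := fun hq hfix =>
    (irow_of H ((f_PSL m (by omega) hq).of_equiv e.symm) hfix).crow
  rcases (show m = 2 ∨ m = 3 ∨ 4 ≤ m by omega) with rfl | rfl | hm
  · rcases (show Fintype.card F = 2 ∨ Fintype.card F = 3 ∨ 4 ≤ Fintype.card F by omega) with h | h | h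
    · have : Fact (Nat.Prime 7) := ⟨by norm_num⟩
      obtain ⟨f⟩ := Cfsg.Agent.S0255.result (F := ZMod 7) (K := F) (by rw [ZMod.card]) h
      exact (Cfsg.Agent.H454.PslThree.irow_psl2 ⟨e.trans f.symm⟩).crow
    · exact crow_of_d3 (Or.inl ⟨F, inferInstance, inferInstance, h, ⟨e⟩⟩)
    · exact hgen (fun _ => by rw [Nat.card_eq_fintype_card]; exact h) fun h3 =>
        Cfsg.Agent.H746.PslThree.fixAt_psl3 h3 ⟨e⟩
  · rcases (show Fintype.card F = 2 ∨ Fintype.card F = 3 ∨ 4 ≤ Fintype.card F by omega) with h | h | h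
    · obtain ⟨f⟩ := Cfsg.Agent.S0256.result h
      exact (IRow.congr (e.trans f) (Alt.irow_alt (by norm_num))).crow
    · refine hgen ?_ fun h3 => Cfsg.Agent.H621.Rad3.fixAt_psl (by norm_num) h3 ⟨e⟩
      rintro (h4 | ⟨-, h4⟩)
      · omega
      · exfalso
        subst h4
        exact card_ne_three h
    · exact hgen (fun _ => by rw [Nat.card_eq_fintype_card]; exact h) fun h3 =>
        Cfsg.Agent.H621.Rad3.fixAt_psl (by norm_num) h3 ⟨e⟩
  · exact hgen (fun h => by omega) fun h3 => Cfsg.Agent.H621.Rad3.fixAt_psl (by omega) h3 ⟨e⟩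

/-- `PSp_2m(q)`, `m ≥ 2` -/
theorem crow_psp (H : Hyp r K) (h : IsPSpChar r K) : CRow K := by
  have hfix := Cfsg.Agent.H107.FixThree.fixAt_psp (r := r) h
  obtain ⟨F, _, _, _, m, hm, hm2, ⟨e⟩⟩ := h
  have hF2 : 1 < Fintype.card F := Fintype.one_lt_card
  have hfin : Finite (PSp m F) := Quotient.finite _
  by_cases h1 : m = 2 ∧ Fintype.card F = 3
  · obtain ⟨rfl, h3⟩ := h1
    exact crow_of_d3 (Or.inr (Or.inr ⟨F, inferInstance, inferInstance, h3, ⟨e⟩⟩))
  by_cases h2 : m = 3 ∧ Fintype.card F = 2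
  · obtain ⟨rfl, h3⟩ := h2
    exact (Cfsg.Agent.H216.Rad3.SpSix.irow_sp62 h3 ⟨e⟩).crow
  refine (irow_of H ((f_PSp hm ?_).of_equiv e.symm) hfix).crow
  rw [Nat.card_eq_fintype_card]
  rintro (h3 | ⟨h3, h4⟩)
  · have := hm2 h3
    omega
  · subst h4
    have := card_ne_three (F := F)
    omega

/-- `PSU_n(q)`, `n ≥ 4` -/
theorem crow_psu (H : Hyp r K) {F : Type} [Field F] [Fintype F] [CharP F r] {n q : ℕ} (hF : Fintype.card F = q ^ 2)
    (hn : 4 ≤ n) (e : K ≃* PSU n F q) : CRow K := by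
  have hF2 : 1 < Fintype.card F := Fintype.one_lt_card
  have hfix := Cfsg.Agent.H858.FixPsu.fixAt_psu (r := r) (K := K) hF hn
  have hfin : Finite (PSU n F q) := Quotient.finite _
  have hq2 : 2 ≤ q := by
    by_contra hcon
    have : q ≤ 1 := by omega
    have h1 : q ^ 2 ≤ 1 ^ 2 := Nat.pow_le_pow_left this 2
    omega
  -- `q` is a power of `r`
  have hq3 : r = 2 → q ≠ 3 := by
    rintro rfl rfl
    obtain ⟨k, -, hk⟩ := FiniteField.card F 2
    rw [hk] at hF
    have h6 : Even (2 ^ (k : ℕ)) := (even_two).pow_of_ne_zero k.ne_zero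
    rw [hF] at h6
    exact absurd h6 (by decide)
  by_cases hq : q = 2
  · subst hq
    rcases hn.eq_or_lt with rfl | hn
    · obtain ⟨f⟩ := Cfsg.Agent.S0822.result (F := F) (K := ZMod 3) (by rw [hF]; norm_num) (by rw [ZMod.card])
      exact crow_of_d3 (Or.inr (Or.inr ⟨ZMod 3, inferInstance, inferInstance, ZMod.card 3, ⟨e.trans f⟩⟩))
    · exact (Cfsg.Agent.H372.Rad3U.irow_psu52 hn (by rw [hF]; norm_num) ⟨e⟩).crow
  by_cases h43 : n = 4 ∧ q = 3
  · obtain ⟨rfl, rfl⟩ := h43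
    exact (Cfsg.Agent.H454.PsuThree.irow_psu43 (by rw [hF]; norm_num) ⟨e⟩).crow
  rcases Nat.even_or_odd' n with ⟨m, rfl | rfl⟩
  · refine (irow_of H ((f_PSU_even hF (by omega) ?_).of_equiv e.symm) fun h3 => hfix h3 ⟨e⟩).crow
    rintro (h | ⟨h, h2⟩)
    · omega
    · have := hq3 h2
      omega
  · refine (irow_of H ((f_PSU_odd hF (by omega) ?_).of_equiv e.symm) fun h3 => hfix h3 ⟨e⟩).crow
    intro _
    refine ⟨hq2, fun h2 => ?_⟩
    have := hq3 h2
    omega

/-- `PΩ_{2m+1}(q)` -/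
theorem irow_odd (H : Hyp r K) (h : IsPOmegaOddChar r K) : IRow K := by
  have hfix := Cfsg.Agent.H107.FixThree.fixAt_omega_odd (r := r) h
  obtain ⟨F, _, _, _, m, hm, hodd, ⟨e⟩⟩ := h
  have hfin : Finite (Cfsg.POmega F (Cfsg.quadFormOdd m F)) := Quotient.finite _
  have h2 : (2 : F) ≠ 0 := by
    intro h2
    have h3 : CharP F 2 := CharTwo.of_one_ne_zero_of_two_eq_zero one_ne_zero h2
    obtain ⟨k, -, hk⟩ := FiniteField.card F 2
    rw [hk] at hodd
    exact absurd hodd (by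
      rw [Nat.not_odd_iff_even]
      exact (even_two).pow_of_ne_zero k.ne_zero)
  exact irow_of H ((f_PO_odd h2 hm).of_equiv e.symm) hfix

/-- `PΩ⁻_{2m}(q)` -/
theorem irow_minus (H : Hyp r K) (h : IsPOmegaMinusChar r K) : IRow K := by
  have hfix := Cfsg.Agent.H107.FixThree.fixAt_omega_minus (r := r) h
  obtain ⟨F, _, _, _, m, a, b, hm, hab, ⟨e⟩⟩ := h
  have hF2 : 1 < Fintype.card F := Fintype.one_lt_card
  have hfin : Finite (Cfsg.POmega F (Cfsg.quadFormMinus (m - 1) F a b)) := Quotient.finite _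
  by_cases h2 : m = 4 ∧ Fintype.card F = 2
  · obtain ⟨rfl, h3⟩ := h2
    exact Cfsg.Agent.H872.Rad3.irow_o8m2 h3 hab ⟨e⟩
  refine irow_of H ((f_PO_minus a b hab (by omega) ?_).of_equiv e.symm) hfix
  rw [Nat.card_eq_fintype_card]
  rintro ⟨h3, h4⟩
  subst h4
  have := card_ne_three (F := F)
  omega

/-- `PΩ⁺_{2m}(q)` -/
theorem irow_plus (H : Hyp r K) (h : IsPOmegaPlusChar r K) : IRow K := by
  obtain ⟨F, _, _, _, m, hm, ⟨e⟩⟩ := h
  have hF2 : 1 < Fintype.card F := Fintype.one_lt_card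
  have hfin : Finite (Cfsg.POmega F (Cfsg.quadFormPlus m F)) := Quotient.finite _
  rcases hm.eq_or_lt with rfl | hm
  · by_cases h2 : Fintype.card F = 2
    · exact Cfsg.Agent.H872.Rad3.irow_o8p2 h2 ⟨e⟩
    · intro x hx hR _
      refine D4.norc_o8 (r := r) (F := F) (by rw [Nat.card_eq_fintype_card]; omega) H.sol H.small ?_ e hx hR
      rintro rfl x hx
      exact H.self x hx
  · obtain ⟨n, rfl⟩ : ∃ n, m = n + 3 := ⟨m - 3, by omega⟩
    exact irow_of H ((f_PO_plus n (by omega)).of_equiv e.symm) fun h3 =>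
      Cfsg.Agent.H107.FixThree.fixAt_omega_plus (by omega) ⟨e⟩ h3

/-- the exceptional Chevalley groups -/
theorem irow_exc (H : Hyp r K) (h : IsExceptionalChevChar r K) : IRow K := by
  obtain ⟨F, _, _, _, h⟩ := h
  have hF2 : 1 < Fintype.card F := Fintype.one_lt_card
  rcases h with ⟨h3, ⟨e⟩⟩ | ⟨⟨e⟩⟩ | ⟨⟨e⟩⟩ | ⟨⟨e⟩⟩ | ⟨⟨e⟩⟩
  · rcases h3.eq_or_lt with h3 | h3
    · exact Cfsg.Agent.H651.Rad3.G23.irow_g23 h3.symm ⟨e⟩
    · have ht : Nodes.RGDChev.IsType Lie.chevG2 2 CoxeterMatrix.G₂ := by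
        simp [Nodes.RGDChev.IsType, Nodes.RGDChev.typeList]
      exact irow_of H ((f_group ht (by norm_num) F r (fun h => absurd h (by norm_num))
        (fun _ => by rw [Nat.card_eq_fintype_card]; omega)).of_equiv e.symm) fun _ =>
          H65.Disp.Tri.fixAt_chev ht ⟨e⟩
  · have ht : Nodes.RGDChev.IsType Lie.chevF4 4 CoxeterMatrix.F₄ := by
      simp [Nodes.RGDChev.IsType, Nodes.RGDChev.typeList]
    exact irow_of H ((f_group ht (by norm_num) F r (fun _ => by decide +kernel) (fun h => by omega)).of_equiv e.symm)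
      fun _ => H65.Disp.Tri.fixAt_chev ht ⟨e⟩
  · have ht : Nodes.RGDChev.IsType Lie.chevE6 6 CoxeterMatrix.E₆ := by
      simp [Nodes.RGDChev.IsType, Nodes.RGDChev.typeList]
    exact irow_of H ((f_group ht (by norm_num) F r (fun _ => by decide +kernel) (fun h => by omega)).of_equiv e.symm)
      fun _ => H65.Disp.Tri.fixAt_chev ht ⟨e⟩
  · have ht : Nodes.RGDChev.IsType Lie.chevE7 7 CoxeterMatrix.E₇ := by
      simp [Nodes.RGDChev.IsType, Nodes.RGDChev.typeList]
    exact irow_of H ((f_group ht (by norm_num) F r (fun _ => by decide +kernel) (fun h => by omega)).of_equiv e.symm)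
      fun _ => H65.Disp.Tri.fixAt_chev ht ⟨e⟩
  · have ht : Nodes.RGDChev.IsType Lie.chevE8 8 CoxeterMatrix.E₈ := by
      simp [Nodes.RGDChev.IsType, Nodes.RGDChev.typeList]
    exact irow_of H ((f_group ht (by norm_num) F r (fun _ => by decide +kernel) (fun h => by omega)).of_equiv e.symm)
      fun _ => H65.Disp.Tri.fixAt_chev ht ⟨e⟩

/-- `²E₆(q)`, `³D₄(q)` -/
theorem irow_tw (H : Hyp r K) (h : IsTwistedE6D4Char r K) : IRow K := by
  obtain ⟨F, _, _, _, q, hq, ⟨hF, ⟨e⟩⟩ | ⟨hF, ⟨e⟩⟩⟩ := h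
  · exact irow_of H ((f_twE6 hq hF r).of_equiv e.symm) fun _ => H65.Disp.Tri.fixAt_twE6 hq hF ⟨e⟩
  · have hfix : FixAt r K := H65.Disp.Tri.fixAt_twD4 hq hF ⟨e⟩
    have hq2 := hq.two_le
    rcases (show q = 2 ∨ q = 3 ∨ 4 ≤ q by omega) with rfl | rfl | h
    · have h2 : r = 2 := by
        obtain ⟨k, -, hk⟩ := FiniteField.card F r
        have h3 : r ∣ 2 ^ 3 := by rw [← hF, hk]; exact dvd_pow_self r k.ne_zero
        exact (Nat.prime_dvd_prime_iff_eq hr.out Nat.prime_two).1 (hr.out.dvd_of_dvd_pow h3)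
      subst h2
      exact H640.TD.irow_of_fix (by rw [hF]; norm_num) ⟨e⟩ hfix
    · exact H3.D43.irow_3d43 (by rw [hF]; norm_num) ⟨e⟩
    · exact irow_of H ((f_twD4 hq hF h r).of_equiv e.symm) fun _ => hfix

/-- **the rows of the groups of Lie type of rank at least two** -/
theorem crow_big (H : Hyp r K) (hB : IsBig r K) : CRow K := by
  rcases hB with h | h | h | h | h | h | h | h
  · obtain ⟨F, _, _, _, n, hn, ⟨e⟩⟩ := h
    exact crow_psl H hn e
  · exact crow_psp H h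
  · obtain ⟨F, _, _, _, n, q, hF, hn, ⟨e⟩⟩ := h
    exact crow_psu H hF hn e
  · exact (irow_odd H h).crow
  · exact (irow_plus H h).crow
  · exact (irow_minus H h).crow
  · exact (irow_exc H h).crow
  · exact (irow_tw H h).crow

/-- the sporadic groups -/
theorem irow_spor (h : IsSporadicGroup K) : IRow K := by
  rcases h with h | h | h | h | h | h | h | h | h | h | h | h | h | h | h | h | h | h |
      h | h | h | h | h | h | h | h
  · exact H322.RadM.irow_m11 h
  · exact H322.RadM.irow_m12 h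
  · exact H322.RadM.irow_m22 h
  · exact H322.RadM.irow_m23 h
  · exact H322.RadM.irow_m24 h
  · exact H462.Rad3.Janko.irow_j1 h
  · exact H462.Rad3.Janko.irow_j2 h
  · exact H462.Rad3.Janko.irow_j3 h
  · exact H51.Rad3.J4.irow_j4 h
  · exact H345.IRowCo.irow_co1 h
  · exact H345.IRowCo.irow_co2 h
  · exact H345.IRowCo.irow_co3 h
  · exact H112.Rad3.irow_mcl h
  · exact H112.Rad3.irow_hs h
  · exact H112.Rad3.irow_suz h
  · exact H51.Rad3.He.irow_he h
  · exact H51.Rad3.Ru.irow_ru h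
  · exact H51.Rad3.ON.irow_on h
  · exact H51.Rad3.Ly.irow_ly h
  · exact H491.Rad3.irow_fi22 h
  · exact H491.Rad3.irow_fi23 h
  · exact H491.Rad3.irow_fi24p h
  · exact H478.HNThree.irow_hn h
  · exact H478.ThThree.irow_th h
  · exact H491.Rad3.irow_b h
  · exact H345.IRowM.irow_m h

/-- **The rows for elements of order three.** -/
theorem crow (hna : ¬ IsMulCommutative K) (hK : IsKnownSimple' K) : CRow K := by
  rcases Cfsg.Agent.OddHalf.Known.classify' hna hK with h | ⟨r, hr, h⟩ | h | h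
  · obtain ⟨n, hn, ⟨e⟩⟩ := h
    exact (IRow.congr e (Alt.irow_alt hn)).crow
  · have : Fact r.Prime := ⟨hr⟩
    rcases Cfsg.Agent.H459.Assemble.isLie_cases h with h1 | h1 | h1 | h1 | h1 | h1
    · exact crow_big (Row3.hyp_of_isBig h1) h1
    · obtain ⟨F, _, _, e⟩ := h1
      exact (H454.PslThree.irow_psl2 e).crow
    · obtain ⟨F, _, _, q, hF, e⟩ := h1
      by_cases hq : q = 3
      · subst hq
        exact crow_of_d3 (Or.inr (Or.inl ⟨F, inferInstance, inferInstance, by rw [hF]; norm_num, e⟩))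
      · exact (H223.R3.irow_psu3 hF hq e).crow
    · exact (H415.IRow.Sz.irow_suzuki h1).crow
    · exact (H160.TwF3.Row.irow_2f4 h1.2).crow
    · exact (H415.IRow.Ree.irow_ree h1).crow
  · exact (H933.TitsRadThree.irow_tits h).crow
  · exact (irow_spor h).crow

/-- **known groups** -/
theorem core_known (hna : ¬ IsMulCommutative K) (hK : IsKnownSimple' K) {x : MulAut K} (hx : orderOf x = 3)
    (hR : RC x) (hI : Inv x) : IsS3 K :=
  ⟨inferInstance, hna, crow hna hK x hx hR hI⟩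

/-- **`Core3` from the classification** -/
theorem core3_of_known
    (h : ∀ (K : Type) [Group K] [Finite K] [IsSimpleGroup K], ¬ IsMulCommutative K → IsKnownSimple' K) : Core3 :=
  fun K _ _ _ _ hna hx hR hP => core_known hna (h K hna) hx hR (inv_of_ps le_rfl hP)

end Cfsg.Agent.H663.SN.Core
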